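import Cfsg.Agent.Lib.FusionExamples.J4Sub.TopP.Data

/-! Generated coset-enumeration certificate: J4P over <y, x * y * x * (y⁻¹) * x * y * (x⁻¹) * y * (x⁻¹) * (y⁻¹) * (x⁻¹), x * y * x * y * x * (y⁻¹) * x * y * x * y * (x⁻¹) * (y⁻¹) * (x⁻¹) * y * (x⁻¹) * (y⁻¹) * (x⁻¹) * (y⁻¹) * (x⁻¹), x * y * x * y * x * (y⁻¹) * x * (y⁻¹) * x * y * (x⁻¹) * y * (x⁻¹) * y * (x⁻¹) * (y⁻¹) * (x⁻¹) * (y⁻¹) * (x⁻¹), x * (y⁻¹) * x * y * (x⁻¹) * y * (x⁻¹), x * y * x * y * x * y * x * (y⁻¹) * x * y * (x⁻¹) * y * (x⁻¹) * (y⁻¹) * (x⁻¹) * (y⁻¹) * (x⁻¹) * (y⁻¹) * (x⁻¹), x * y * x * y * x * y * x * y * x * (y⁻¹) * x * (y⁻¹) * (x⁻¹) * (y⁻¹) * (x⁻¹) * (y⁻¹) * (x⁻¹) * (y⁻¹) * (x⁻¹) * (y⁻¹) * (x⁻¹)>, 24 cosets. -/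

set_option autoImplicit false
set_option maxRecDepth 20000
set_option linter.all false
set_option Elab.async false

namespace CfsgLib.FusionExamples.J4Sub.TopP

open CfsgLib.SporRecognition.CosetCert

def codes23 : List Nat := [
  0xe,
  0x200000400000600000800000a000000000009000007000005000003000001000000000f,
  0x200000400000600000c00000e00001000001200001400001600000000001500001300001100000f00000d00000b0000050000030000010000000010,
  0x200000400000600000c00000e00001000001200001800001a00000000001900001700001100000f00000d00000b0000050000030000010000000011,
  0x200001c00001e00000000001d00001b0000010000000012,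
  0x200000400000600000c00000e00002000002200002400002600000000002500002300002100001f00000d00000b0000050000030000010000000013,
  0x200000400000600000c00000e00002000002200002800002a00000000002d00002b00002900002700002100001f00000d00000b0000050000030000010000000014,
  0x2c00000000003c0000150001,
  0x2d0000160000,
  0x2a0000150000,
  0x230000280000140001,
  0x260000130000,
  0x220000110000,
  0xf0000200000100001,
  0x1e00000f0000,
  0x400000000001b0000010001,
  0x1a00000d0000,
  0x2d00003d00002d00003d00002d00002b00004100004300002600003900004500004400002a00002c00003f00003c00004100002700004700004900001200001800001a00003600004f00001700000000004a00002200002400002600003900004500004400002a00003b0000170006,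
  0x140000000000170000090001,
  0x2200002800002a00002c00003f00003e00003f00003c00004100002700004700004900001200001800001a00003500004f00001700005100004a00002200002800002a00003b00002d00003d00002d00002b00004100004300002600003900004500004400002a00002c00003f00003e00003f00003c00004100002700004700004900001200001400001600003400000000005300001a00003600004f00001700005100004a0000100005,
  0xe0000070000,
  0x1a00003500004f00001700005100004a00002200002800002a00002c00003f00003e00003f00003c00004100004300002600003a00004500002300004700001f00005700000b00000000004d00001e00003800004b00004e00000600000c00000e00001000001200001800000c0006,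
  0x4c00003800004b00001b00000100003000000200000400005a00000800000a00003100000900000000000e00002000004800002400002600003900002500004400002a00002c00002e00003e00003f00003c00002900002700004700004900005200001800001a00003500001900005400001600003300001500001300005100000f00000d00000b00005900004d00000e0003,
  0x1d00004e00005a00000800000a00003100000000000700000500000300000100003000000200000400000600000c00005800001000005200001800001a00003500004f00001700001100004a00004800002400002600003900004500002300002100001f00000d00000b00005900004d00001e00003700000f0004,
  0x4800002400004600003a00004500002300004700004900005200001800005000003600004f00001700005100000f00000d00000b00000500000300000000002f00000200000400005a00000800005e00003200005d00000700005900004d00004c00003800001d00004e00000600000c00000e0000200000100004,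
  0x7,
  0x10007,
  0x20007,
  0x30007,
  0x40007,
  0x50007,
  0x60007,
  0x70007,
  0x80007,
  0x90007,
  0xa0007,
  0xb0007,
  0xc0007,
  0xd0007,
  0xe0007,
  0xf0007,
  0x100007,
  0x110007,
  0x120007,
  0x130007,
  0x140007,
  0x150007,
  0x160007,
  0x170007]

theorem steps23 : allList (step inv fact rule 14 21) codes23 23 = true := by
  decide +kernel

theorem covers1 : Covers (step inv fact rule 14 21) 23 72 :=
  (Covers.of_list steps23 rfl : Covers _ 23 72)

end CfsgLib.FusionExamples.J4Sub.TopP
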