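import Cfsg.Agent.Lib.SporRecognition.CosetCert.Chain
import Cfsg.Agent.Lib.FusionExamples.J4Sub.Defs

/-! Generated coset-enumeration certificate: J4P over <y, x * y * x * (y⁻¹) * x * y * (x⁻¹) * y * (x⁻¹) * (y⁻¹) * (x⁻¹), x * y * x * y * x * (y⁻¹) * x * y * x * y * (x⁻¹) * (y⁻¹) * (x⁻¹) * y * (x⁻¹) * (y⁻¹) * (x⁻¹) * (y⁻¹) * (x⁻¹), x * y * x * y * x * (y⁻¹) * x * (y⁻¹) * x * y * (x⁻¹) * y * (x⁻¹) * y * (x⁻¹) * (y⁻¹) * (x⁻¹) * (y⁻¹) * (x⁻¹), x * (y⁻¹) * x * y * (x⁻¹) * y * (x⁻¹), x * y * x * y * x * y * x * (y⁻¹) * x * y * (x⁻¹) * y * (x⁻¹) * (y⁻¹) * (x⁻¹) * (y⁻¹) * (x⁻¹) * (y⁻¹) * (x⁻¹), x * y * x * y * x * y * x * y * x * (y⁻¹) * x * (y⁻¹) * (x⁻¹) * (y⁻¹) * (x⁻¹) * (y⁻¹) * (x⁻¹) * (y⁻¹) * (x⁻¹) * (y⁻¹) * (x⁻¹)>, 24 cosets. -/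

set_option autoImplicit false
set_option maxRecDepth 20000
set_option linter.all false
set_option Elab.async false

namespace CfsgLib.FusionExamples.J4Sub.TopP

open CfsgLib.SporRecognition.CosetCert

def T1Lit : Nat := 0xb5e9594e1173d8d52d0931c8510c01
noncomputable def T1 (u : Nat) : Nat := Nat.land (Nat.shiftRight T1Lit (Nat.mul 5 u)) 31
def T2Lit : Nat := 0xb5e9594e1173d8d52d0931c8510c01
noncomputable def T2 (u : Nat) : Nat := Nat.land (Nat.shiftRight T2Lit (Nat.mul 5 u)) 31
def T3Lit : Nat := 0xb56f19d247789aa5a59040ca6205c0
noncomputable def T3 (u : Nat) : Nat := Nat.land (Nat.shiftRight T3Lit (Nat.mul 5 u)) 31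
def T4Lit : Nat := 0xaded29c688785a95b147810a333840
noncomputable def T4 (u : Nat) : Nat := Nat.land (Nat.shiftRight T4Lit (Nat.mul 5 u)) 31
def T5Lit : Nat := 0xbdab49ca307b9ac5a928398a418820
noncomputable def T5 (u : Nat) : Nat := Nat.land (Nat.shiftRight T5Lit (Nat.mul 5 u)) 31
def T6Lit : Nat := 0xbdab49ca307b9ac5a928398a418820
noncomputable def T6 (u : Nat) : Nat := Nat.land (Nat.shiftRight T6Lit (Nat.mul 5 u)) 31

noncomputable def tabs : Cfsg.Spor.J4.Gen → Bool → Nat → Nat :=
  fun a b => match a with
  | .x => bif b then T1 else T2
  | .y => bif b then T3 else T4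
  | .t => bif b then T5 else T6

def lets : List (Cfsg.Spor.J4.Gen × Bool) := [(.x, true), (.x, false), (.y, true), (.y, false), (.t, true), (.t, false)]
def invols : List Cfsg.Spor.J4.Gen := []
def pairs : List (Cfsg.Spor.J4.Gen × Cfsg.Spor.J4.Gen) := []
def extraW : List (List (Cfsg.Spor.J4.Gen × Bool)) := [
  [(.x, true), (.x, true)],
  [(.y, true), (.y, true), (.y, true)],
  [(.x, true), (.y, true), (.x, true), (.y, true), (.x, true), (.y, true), (.x, true), (.y, true), (.x, true), (.y, true), (.x, true), (.y, true), (.x, true), (.y, true), (.x, true), (.y, true), (.x, true), (.y, true), (.x, true), (.y, true), (.x, true), (.y, true), (.x, true), (.y, true), (.x, true), (.y, true), (.x, true), (.y, true), (.x, true), (.y, true), (.x, true), (.y, true), (.x, true), (.y, true), (.x, true), (.y, true), (.x, true), (.y, true), (.x, true), (.y, true), (.x, true), (.y, true), (.x, true), (.y, true), (.x, true), (.y, true)],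
  [(.x, false), (.y, false), (.x, true), (.y, true), (.x, false), (.y, false), (.x, true), (.y, true), (.x, false), (.y, false), (.x, true), (.y, true), (.x, false), (.y, false), (.x, true), (.y, true), (.x, false), (.y, false), (.x, true), (.y, true), (.x, false), (.y, false), (.x, true), (.y, true), (.x, false), (.y, false), (.x, true), (.y, true), (.x, false), (.y, false), (.x, true), (.y, true), (.x, false), (.y, false), (.x, true), (.y, true), (.x, false), (.y, false), (.x, true), (.y, true), (.x, false), (.y, false), (.x, true), (.y, true), (.x, false), (.y, false), (.x, true), (.y, true)],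
  [(.x, false), (.y, false), (.x, false), (.y, false), (.x, true), (.y, true), (.x, true), (.y, true), (.x, false), (.y, false), (.x, false), (.y, false), (.x, true), (.y, true), (.x, true), (.y, true), (.x, false), (.y, false), (.x, false), (.y, false), (.x, true), (.y, true), (.x, true), (.y, true), (.x, false), (.y, false), (.x, false), (.y, false), (.x, true), (.y, true), (.x, true), (.y, true), (.x, false), (.y, false), (.x, false), (.y, false), (.x, true), (.y, true), (.x, true), (.y, true)],
  [(.x, true), (.y, true), (.x, true), (.y, true), (.x, true), (.y, false), (.x, true), (.y, true), (.x, true), (.y, false), (.x, true), (.y, true), (.x, true), (.y, false), (.x, true), (.y, true), (.x, true), (.y, true), (.x, true), (.y, false), (.x, true), (.y, true), (.x, true), (.y, false), (.x, true), (.y, true), (.x, true), (.y, false), (.x, true), (.y, true), (.x, true), (.y, true), (.x, true), (.y, false), (.x, true), (.y, true), (.x, true), (.y, false), (.x, true), (.y, true), (.x, true), (.y, false), (.x, true), (.y, true), (.x, true), (.y, true), (.x, true), (.y, false), (.x, true), (.y, true),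 (.x, true), (.y, false), (.x, true), (.y, true), (.x, true), (.y, false)],
  [(.x, true), (.y, true), (.x, true), (.y, true), (.x, true), (.y, false), (.x, true), (.y, true), (.x, true), (.y, true), (.x, true), (.y, false), (.x, true), (.y, true), (.x, true), (.y, true), (.x, true), (.y, false), (.x, true), (.y, true), (.x, true), (.y, false), (.x, true), (.y, false), (.x, true), (.y, true), (.x, true), (.y, false), (.x, true), (.y, false), (.x, true), (.y, true), (.x, true), (.y, false), (.x, true), (.y, false)],
  [(.t, true)]]
def relW : List (List (Cfsg.Spor.J4.Gen × Bool)) := [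
  [(.x, true), (.x, true)],
  [(.y, true), (.y, true), (.y, true)],
  [(.x, true), (.y, true), (.x, true), (.y, true), (.x, true), (.y, true), (.x, true), (.y, true), (.x, true), (.y, true), (.x, true), (.y, true), (.x, true), (.y, true), (.x, true), (.y, true), (.x, true), (.y, true), (.x, true), (.y, true), (.x, true), (.y, true), (.x, true), (.y, true), (.x, true), (.y, true), (.x, true), (.y, true), (.x, true), (.y, true), (.x, true), (.y, true), (.x, true), (.y, true), (.x, true), (.y, true), (.x, true), (.y, true), (.x, true), (.y, true), (.x, true), (.y, true), (.x, true), (.y, true), (.x, true), (.y, true)],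
  [(.x, false), (.y, false), (.x, true), (.y, true), (.x, false), (.y, false), (.x, true), (.y, true), (.x, false), (.y, false), (.x, true), (.y, true), (.x, false), (.y, false), (.x, true), (.y, true), (.x, false), (.y, false), (.x, true), (.y, true), (.x, false), (.y, false), (.x, true), (.y, true), (.x, false), (.y, false), (.x, true), (.y, true), (.x, false), (.y, false), (.x, true), (.y, true), (.x, false), (.y, false), (.x, true), (.y, true), (.x, false), (.y, false), (.x, true), (.y, true), (.x, false), (.y, false), (.x, true), (.y, true), (.x, false), (.y, false), (.x, true), (.y, true)],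
  [(.x, false), (.y, false), (.x, false), (.y, false), (.x, true), (.y, true), (.x, true), (.y, true), (.x, false), (.y, false), (.x, false), (.y, false), (.x, true), (.y, true), (.x, true), (.y, true), (.x, false), (.y, false), (.x, false), (.y, false), (.x, true), (.y, true), (.x, true), (.y, true), (.x, false), (.y, false), (.x, false), (.y, false), (.x, true), (.y, true), (.x, true), (.y, true), (.x, false), (.y, false), (.x, false), (.y, false), (.x, true), (.y, true), (.x, true), (.y, true)],
  [(.x, true), (.y, true), (.x, true), (.y, true), (.x, true), (.y, false), (.x, true), (.y, true), (.x, true), (.y, false), (.x, true), (.y, true), (.x, true), (.y, false), (.x, true), (.y, true), (.x, true), (.y, true), (.x, true), (.y, false), (.x, true), (.y, true), (.x, true), (.y, false), (.x, true), (.y, true), (.x, true), (.y, false), (.x, true), (.y, true), (.x, true), (.y, true), (.x, true), (.y, false), (.x, true), (.y, true), (.x, true), (.y, false), (.x, true), (.y, true), (.x, true), (.y, false), (.x, true), (.y, true), (.x, true), (.y, true), (.x, true), (.y, false), (.x, true), (.y, true),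 (.x, true), (.y, false), (.x, true), (.y, true), (.x, true), (.y, false)],
  [(.x, true), (.y, true), (.x, true), (.y, true), (.x, true), (.y, false), (.x, true), (.y, true), (.x, true), (.y, true), (.x, true), (.y, false), (.x, true), (.y, true), (.x, true), (.y, true), (.x, true), (.y, false), (.x, true), (.y, true), (.x, true), (.y, false), (.x, true), (.y, false), (.x, true), (.y, true), (.x, true), (.y, false), (.x, true), (.y, false), (.x, true), (.y, true), (.x, true), (.y, false), (.x, true), (.y, false)],
  [(.t, true)]]
def subW : List (List (Cfsg.Spor.J4.Gen × Bool)) := [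
  [(.y, true)],
  [(.x, true), (.y, true), (.x, true), (.y, false), (.x, true), (.y, true), (.x, false), (.y, true), (.x, false), (.y, false), (.x, false)],
  [(.x, true), (.y, true), (.x, true), (.y, true), (.x, true), (.y, false), (.x, true), (.y, true), (.x, true), (.y, true), (.x, false), (.y, false), (.x, false), (.y, true), (.x, false), (.y, false), (.x, false), (.y, false), (.x, false)],
  [(.x, true), (.y, true), (.x, true), (.y, true), (.x, true), (.y, false), (.x, true), (.y, false), (.x, true), (.y, true), (.x, false), (.y, true), (.x, false), (.y, true), (.x, false), (.y, false), (.x, false), (.y, false), (.x, false)],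
  [(.x, true), (.y, false), (.x, true), (.y, true), (.x, false), (.y, true), (.x, false)],
  [(.x, true), (.y, true), (.x, true), (.y, true), (.x, true), (.y, true), (.x, true), (.y, false), (.x, true), (.y, true), (.x, false), (.y, true), (.x, false), (.y, false), (.x, false), (.y, false), (.x, false), (.y, false), (.x, false)],
  [(.x, true), (.y, true), (.x, true), (.y, true), (.x, true), (.y, true), (.x, true), (.y, true), (.x, true), (.y, false), (.x, true), (.y, false), (.x, false), (.y, false), (.x, false), (.y, false), (.x, false), (.y, false), (.x, false), (.y, false), (.x, false)]]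

end CfsgLib.FusionExamples.J4Sub.TopP
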